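import Groth.Agent.LC15.PicDesc.Main
import Groth.Agent.ParaF26.UFD
import Groth.Agent.CM62.Basic
import Mathlib.AlgebraicGeometry.AffineSpace
import Mathlib.RingTheory.Polynomial.UniqueFactorization
import Mathlib.AlgebraicGeometry.Noetherian

/-!
Invertible modules on opens of affine space with a section over a normal base come from the base.
-/

set_option autoImplicit false
set_option linter.style.haveILetI false
set_option backward.isDefEq.respectTransparency.types false

universe u

noncomputable section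

open CategoryTheory CategoryTheory.Limits AlgebraicGeometry

namespace Groth.Agent.PicAff25

theorem pullCl_comp {A B C : Scheme.{u}} (g : A ⟶ B) (h : B ⟶ C) (c : PicF.Cl C) :
    PicF.pullCl g (PicF.pullCl h c) = PicF.pullCl (g ≫ h) c :=
  Quot.inductionOn c fun L => Quot.sound ⟨(Scheme.Modules.pullbackComp g h).app L⟩

theorem pullCl_id {A : Scheme.{u}} (c : PicF.Cl A) : PicF.pullCl (𝟙 A) c = c :=
  Quot.inductionOn c fun L => Quot.sound ⟨(Scheme.Modules.pullbackId A).app L⟩

variable {n : Type u} {P Y : Scheme.{u}} (i : P ⟶ 𝔸(n; Y)) [IsOpenImmersion i]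

/-- The fibre of an open subscheme of affine space, as an open subscheme of affine space over the
residue field. -/
theorem exists_fibre_chart (f : P ⟶ Y) (hf : i ≫ (𝔸(n; Y) ↘ Y) = f) (y : Y) :
    ∃ g : f.fiber y ⟶ Spec (CommRingCat.of (MvPolynomial n (Y.residueField y))), IsOpenImmersion g := by
  let x := Y.fromSpecResidueField y
  have R : IsPullback (AffineSpace.map n x) (𝔸(n; Spec (Y.residueField y)) ↘ _) (𝔸(n; Y) ↘ Y) x :=
    AffineSpace.isPullback_map x
  have O : IsPullback (f.fiberι y) (f.fiberToSpecResidueField y) (i ≫ (𝔸(n; Y) ↘ Y)) x := by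
    rw [hf]; exact IsPullback.of_hasPullback _ _
  let g₀ : f.fiber y ⟶ 𝔸(n; Spec (Y.residueField y)) :=
    R.lift (f.fiberι y ≫ i) (f.fiberToSpecResidueField y) (by rw [Category.assoc]; exact O.w)
  have h1 : g₀ ≫ (𝔸(n; Spec (Y.residueField y)) ↘ _) = f.fiberToSpecResidueField y := R.lift_snd _ _ _
  have h2 : g₀ ≫ AffineSpace.map n x = f.fiberι y ≫ i := R.lift_fst _ _ _
  have hL : IsPullback (f.fiberι y) g₀ i (AffineSpace.map n x) :=
    IsPullback.of_bot (by rw [h1]; exact O) h2.symm R
  haveI : IsOpenImmersion g₀ := MorphismProperty.of_isPullback hL inferInstance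
  exact ⟨g₀ ≫ (AffineSpace.SpecIso n (Y.residueField y)).hom, inferInstance⟩

/-- An open subscheme of the spectrum of a domain which is nonempty is integral. -/
theorem isIntegral_of_chart {A : CommRingCat.{u}} [IsDomain A] {F : Scheme.{u}} (g : F ⟶ Spec A)
    [IsOpenImmersion g] [Nonempty F] : IsIntegral F :=
  isIntegral_of_isOpenImmersion g

/-- Invertible modules on an open subscheme of a factorial Noetherian affine scheme are trivial. -/
theorem nonempty_iso_unit_of_chart {A : CommRingCat.{u}} [IsDomain A] [UniqueFactorizationMonoid A]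
    [IsNoetherianRing A] {F : Scheme.{u}} (g : F ⟶ Spec A) [IsOpenImmersion g] (L : F.Modules)
    (hL : PicF.IsInvertible L) : Nonempty (L ≅ Coh.structureModule F) := by
  obtain ⟨e, he⟩ := ParaF26.exists_frame_of_ufd (A := A)
    (ParaF26.framedOn_push (X := Spec A) g hL (V := g.opensRange) le_rfl)
  exact ParaF26.nonempty_iso_unit ((ParaF26.isFrame_of_push g le_rfl he).res fun z _ => ⟨z, rfl⟩)

variable [Finite n] [IsIntegral Y] [IsLocallyNoetherian Y]

theorem exists_pullback_iso (hY : Pi1.IsNormalScheme Y) (f : P ⟶ Y) (hf : i ≫ (𝔸(n; Y) ↘ Y) = f)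
    (σ : Y ⟶ P) (hσ : σ ≫ f = 𝟙 Y) (L : P.Modules) (hL : PicF.IsInvertible L) :
    ∃ M : Y.Modules, PicF.IsInvertible M ∧ Nonempty ((Scheme.Modules.pullback f).obj M ≅ L) := by
  haveI : Flat f := hf ▸ (inferInstance : Flat (i ≫ (𝔸(n; Y) ↘ Y)))
  haveI : LocallyOfFiniteType f := hf ▸ (inferInstance : LocallyOfFiniteType (i ≫ (𝔸(n; Y) ↘ Y)))
  haveI : IsLocallyNoetherian P := LocallyOfFiniteType.isLocallyNoetherian f
  have hs : Function.Surjective f := fun y => ⟨σ y, by
    rw [← Scheme.Hom.comp_apply, hσ]; rfl⟩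
  haveI : Surjective f := ⟨hs⟩
  have hopen : IsOpenMap f := by
    rw [← hf, Scheme.Hom.comp_base]
    exact (AffineSpace.isOpenMap_over Y).comp i.isOpenEmbedding.isOpenMap
  have hne : ∀ y, Nonempty (f.fiber y) := fun y => by
    obtain ⟨x, hx⟩ := hs y
    exact ⟨(f.fiberHomeo y).symm ⟨x, hx⟩⟩
  refine LC15.PicDesc.exists_pullback_iso f (Or.inr hopen) hY (fun y _ => ?_) hL fun η hη => ?_
  · obtain ⟨g, hg⟩ := exists_fibre_chart i f hf y
    haveI := hne y
    exact isIntegral_of_chart g
  · obtain ⟨g, hg⟩ := exists_fibre_chart i f hf η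
    exact nonempty_iso_unit_of_chart g _ (PicLoc.isInvertible_pullback (f.fiberι η) hL)

end Groth.Agent.PicAff25

end
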